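import Groth.Agent.EtVan.Integral
import Groth.Agent.EtPushStalk.Lift
import Groth.Agent.AlgSpLib.EtNbhd

/-!
Etale neighbourhoods of a point of a closed subspace are cofinally base changed from the ambient space.
-/

set_option autoImplicit false
set_option linter.style.haveILetI false
set_option backward.isDefEq.respectTransparency false

universe u

noncomputable section

open CategoryTheory CategoryTheory.Limits AlgebraicGeometry Opposite AlgSp

namespace Groth.Agent.EtStalkClosed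

variable {S : Scheme.{u}} {Z X : Sp S} {i : Z ⟶ X} (hi : RepWith @IsClosedImmersion i) (z : FieldPt Z)

/-- the neighbourhood of a point of the subspace cut out by a neighbourhood of its image -/
def bcNbhd (N : EtNbhd (z.map i)) : EtNbhd z :=
  ⟨(EtOver.bc hi.1).obj N.1,
    ⟨hi.1.lift z.toHom N.2.1 ((N.2.2.trans (FieldPt.toHom_map i z)).symm), hi.1.lift_fst _ _ _⟩⟩

/-- base change of a map of neighbourhoods -/
def bcNbhdMap {M N : EtNbhd (z.map i)} (a : M ⟶ N) : bcNbhd hi z M ⟶ bcNbhd hi z N :=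
  CategoryOfElements.homMk _ _ ((EtOver.bc hi.1).map a.1) (Subtype.ext (by
    show hi.1.lift z.toHom M.2.1 _ ≫ ((EtOver.bc hi.1).map a.1).hom.left = hi.1.lift z.toHom N.2.1 _
    refine hi.1.hom_ext ?_ ?_
    · rw [Functor.map_comp, Category.assoc, hi.1.lift_fst]
      refine Eq.trans ?_ (hi.1.lift_fst z.toHom M.2.1 ((M.2.2.trans (FieldPt.toHom_map i z)).symm))
      exact congrArg ((yon S).map (hi.1.lift z.toHom M.2.1 _) ≫ ·) (EtOver.map_bcMap_fst hi.1 a.1)
    · rw [hi.1.lift_snd, Category.assoc]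
      erw [EtOver.bcMap_snd hi.1 a.1]
      rw [hi.1.lift_snd_assoc]
      exact congrArg Subtype.val a.2))

/-- neighbourhoods on the subspace are refined by base changed ones -/
theorem exists_lift_nbhd (N : EtNbhd (z.map i)) (W : EtNbhd z) (g : W ⟶ bcNbhd hi z N) :
    ∃ (M : EtNbhd (z.map i)) (a : M ⟶ N) (h : bcNbhd hi z M ⟶ W), h ≫ g = bcNbhdMap hi z a := by
  let P : EtOver Z := (EtOver.bc hi.1).obj N.1
  let f : P.obj.left.left ⟶ N.1.obj.left.left := (hi.1.snd N.1.obj.hom).left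
  haveI : IsClosedImmersion f := hi.2 N.1.obj.hom _ _ (hi.1.isPullback N.1.obj.hom)
  haveI : Etale g.1.hom.left.left := EtOver.etale_left g.1
  let WE : (P.obj.left.left).Etale := Scheme.Etale.mk g.1.hom.left.left
  let w : z.pt.left ⟶ W.1.obj.left.left := W.2.1.left
  let k₀ : z.pt.left := IsLocalRing.closedPoint z.K
  obtain ⟨V, h, hho, hw⟩ := Groth.Agent.EtPushStalk.liftProp_of_closedImmersion f WE (w k₀)
  haveI := hho
  haveI : Etale V.hom := V.prop
  have hsub : Set.range w ⊆ Set.range h.left := by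
    rintro _ ⟨t, rfl⟩
    rw [show t = k₀ from Subsingleton.elim (α := PrimeSpectrum z.K) _ _]
    exact hw
  have hh : h.left ≫ g.1.hom.left.left = pullback.snd V.hom f := MorphismProperty.Over.w h
  let pH : Over.mk (V.hom ≫ N.1.obj.left.hom) ⟶ N.1.obj.left := Over.homMk V.hom rfl
  let V' : EtOver X := EtOver.mk ((yon S).map pH ≫ N.1.obj.hom)
    (Groth.Agent.AlgSpLib.repWith_comp ((Groth.Agent.AlgSpLib.repWith_yon_iff pH).2 (inferInstanceAs (Etale V.hom)))
      N.1.property)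
  let b : V' ⟶ N.1 := EtOver.homMk (E := V') (E' := N.1) pH rfl
  let P' : EtOver Z := (EtOver.bc hi.1).obj V'
  let sq := (EtOver.isPullback_bcMap_left hi.1 b).flip
  let k : P'.obj.left.left ⟶ W.1.obj.left.left := sq.isoPullback.hom ≫ h.left
  have hk : k ≫ g.1.hom.left.left = ((EtOver.bc hi.1).map b).hom.left.left := by
    rw [Category.assoc, hh]
    exact sq.isoPullback_hom_snd
  let m : P' ⟶ W.1 := Groth.Agent.EtVan.homOfFac ((EtOver.bc hi.1).map b) g.1 k hk
  have hm : m ≫ g.1 = (EtOver.bc hi.1).map b := Groth.Agent.EtVan.homOfFac_comp _ _ _ _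
  let u₁ : z.pt.left ⟶ P'.obj.left.left := IsOpenImmersion.lift h.left w hsub ≫ sq.isoPullback.inv
  have hu₁ : u₁ ≫ k = w := by
    simp only [u₁, k, Category.assoc, Iso.inv_hom_id_assoc, IsOpenImmersion.lift_fac]
  let u : z.pt ⟶ P'.obj.left := Over.homMk u₁ (by
    rw [← Over.w W.2.1, ← Over.w m.hom.left]
    exact (Category.assoc _ _ _).symm.trans (congrArg (· ≫ W.1.obj.left.hom) hu₁))
  have hum : u ≫ m.hom.left = W.2.1 := Over.OverMorphism.ext hu₁
  have hfst : (yon S).map u ≫ hi.1.fst V'.obj.hom = z.toHom := by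
    rw [← W.2.2, ← hum, Functor.map_comp, Category.assoc, EtOver.w m]
    rfl
  let v : z.pt ⟶ V'.obj.left := u ≫ hi.1.snd V'.obj.hom
  have hv : (yon S).map v ≫ V'.obj.hom = (z.map i).toHom := by
    rw [Functor.map_comp, Category.assoc, ← hi.1.w, ← Category.assoc, hfst, FieldPt.toHom_map]
  let M : EtNbhd (z.map i) := ⟨V', ⟨v, hv⟩⟩
  have hva : v ≫ b.hom.left = N.2.1 := by
    show (u ≫ hi.1.snd V'.obj.hom) ≫ b.hom.left = N.2.1
    rw [Category.assoc, ← EtOver.bcMap_snd hi.1 b]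
    have h1 : u ≫ ((EtOver.bc hi.1).map b).hom.left = hi.1.lift z.toHom N.2.1 ((N.2.2.trans (FieldPt.toHom_map i z)).symm) := by
      rw [← hm]
      exact ((Category.assoc _ _ _).symm.trans (congrArg (· ≫ g.1.hom.left) hum)).trans (congrArg Subtype.val g.2)
    rw [← Category.assoc]
    erw [h1]
    exact hi.1.lift_snd _ _ _
  let a : M ⟶ N := CategoryOfElements.homMk _ _ b (Subtype.ext hva)
  have hlift : hi.1.lift z.toHom v ((hv.trans (FieldPt.toHom_map i z)).symm) = u :=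
    hi.1.hom_ext ((hi.1.lift_fst _ _ _).trans hfst.symm) (hi.1.lift_snd _ _ _)
  refine ⟨M, a, CategoryOfElements.homMk _ _ m (Subtype.ext ?_), Subtype.ext hm⟩
  show hi.1.lift z.toHom v _ ≫ m.hom.left = W.2.1
  rw [hlift, hum]

theorem exists_stalk_equiv (hX : IsAlgSpace X) (hZ : IsAlgSpace Z) (hzg : z.IsGeometric) (F : EtSh Z (Type (u + 1))) :
    ∃ φ : stalkEt (z.map i) ((pushEt hi.1 (Type (u + 1))).obj F) ≃ stalkEt z F,
      ∀ (N : EtNbhd (z.map i)) (s : F.obj.obj (op (bcNbhd hi z N).1)),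
        φ (stalkEtι (z.map i) ((pushEt hi.1 (Type (u + 1))).obj F) N s) = stalkEtι z F (bcNbhd hi z N) s := by
  haveI := Groth.Agent.AlgSpLib.isCofiltered_etNbhd hX (z.map i) hzg
  haveI := Groth.Agent.AlgSpLib.isCofiltered_etNbhd hZ z hzg
  let c : Cocone (stalkEtDiagram (z.map i) ((pushEt hi.1 (Type (u + 1))).obj F)) :=
    { pt := stalkEt z F
      ι :=
        { app := fun N => stalkEtι z F (bcNbhd hi z N.unop)
          naturality := fun N M a =>
            (colimit.w (stalkEtDiagram z F) (bcNbhdMap hi z a.unop).op).trans (Category.comp_id _).symm } }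
  let f := colimit.desc _ c
  have hf : ∀ N s, f (stalkEtι (z.map i) ((pushEt hi.1 (Type (u + 1))).obj F) N s) = stalkEtι z F (bcNbhd hi z N) s :=
    fun N s => congrArg (fun q => q s) (colimit.ι_desc c (op N))
  refine ⟨Equiv.ofBijective f ⟨fun x y hxy => ?_, fun y => ?_⟩, hf⟩
  · obtain ⟨N₁, s₁, rfl⟩ := Types.jointly_surjective' x
    obtain ⟨N₂, s₂, rfl⟩ := Types.jointly_surjective' y
    have e := (hf N₁.unop s₁).symm.trans (hxy.trans (hf N₂.unop s₂))
    obtain ⟨W, a₁, a₂, hW⟩ := (Types.FilteredColimit.colimit_eq_iff (stalkEtDiagram z F)).1 e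
    obtain ⟨N, n₁, n₂, -⟩ := IsCofilteredOrEmpty.cone_objs N₁.unop N₂.unop
    obtain ⟨W₁, p, q, hpq⟩ := IsCofiltered.cospan a₁.unop (bcNbhdMap hi z n₁)
    obtain ⟨W₂, p', q', hpq'⟩ := IsCofiltered.cospan a₂.unop (bcNbhdMap hi z n₂)
    obtain ⟨W₃, r₁, r₂, -⟩ := IsCofilteredOrEmpty.cone_objs W₁ W₂
    obtain ⟨W₄, t, ht⟩ := IsCofilteredOrEmpty.cone_maps (r₁ ≫ p) (r₂ ≫ p')
    obtain ⟨W₅, t', ht'⟩ := IsCofilteredOrEmpty.cone_maps (t ≫ r₁ ≫ q) (t ≫ r₂ ≫ q')
    obtain ⟨M, a, h, hh⟩ := exists_lift_nbhd hi z N W₅ (t' ≫ t ≫ r₁ ≫ q)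
    refine (Types.FilteredColimit.colimit_eq_iff (stalkEtDiagram (z.map i) ((pushEt hi.1 (Type (u + 1))).obj F))).2
      ⟨op M, (a ≫ n₁).op, (a ≫ n₂).op, ?_⟩
    have hcomp : ∀ {M N N' : EtNbhd (z.map i)} (a : M ⟶ N) (b : N ⟶ N'),
        bcNbhdMap hi z (a ≫ b) = bcNbhdMap hi z a ≫ bcNbhdMap hi z b := fun a b =>
      Subtype.ext ((EtOver.bc hi.1).map_comp a.1 b.1)
    show (stalkEtDiagram z F).map (bcNbhdMap hi z (a ≫ n₁)).op s₁ =
      (stalkEtDiagram z F).map (bcNbhdMap hi z (a ≫ n₂)).op s₂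
    have h₁ : bcNbhdMap hi z (a ≫ n₁) = (h ≫ t' ≫ t ≫ r₁ ≫ p) ≫ a₁.unop := by
      rw [hcomp, ← hh]; simp only [Category.assoc, hpq]
    have h₂ : bcNbhdMap hi z (a ≫ n₂) = (h ≫ t' ≫ t ≫ r₁ ≫ p) ≫ a₂.unop := by
      rw [hcomp, ← hh]
      simp only [Category.assoc]
      rw [reassoc_of% ht', reassoc_of% ht, hpq']
    rw [h₁, h₂]
    simp only [op_comp, Category.assoc, Quiver.Hom.op_unop, Functor.map_comp_apply]
    rw [hW]
  · obtain ⟨W, s, rfl⟩ := Types.jointly_surjective' y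
    obtain ⟨N⟩ := (IsCofiltered.nonempty : Nonempty (EtNbhd (z.map i)))
    obtain ⟨W', p, q, -⟩ := IsCofilteredOrEmpty.cone_objs W.unop (bcNbhd hi z N)
    obtain ⟨M, a, h, -⟩ := exists_lift_nbhd hi z N W' q
    refine ⟨stalkEtι (z.map i) ((pushEt hi.1 (Type (u + 1))).obj F) M ((stalkEtDiagram z F).map (h ≫ p).op s), ?_⟩
    rw [hf]
    exact congrArg (fun k => k s) (colimit.w (stalkEtDiagram z F) (h ≫ p).op)

end Groth.Agent.EtStalkClosed
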